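import Groth.Agent.Triage.SliceFlatSch
import Groth.Agent.Div21Lib.Stalks
import Groth.Agent.FlatDvr.FibreStalk
import Groth.Agent.RelCurve.Scheme
import Groth.Prelude.Def_CurvBase

/-!
# Relative effective Cartier divisors from fibres
-/

set_option autoImplicit false
set_option linter.style.haveILetI false
set_option backward.isDefEq.respectTransparency false
set_option backward.isDefEq.respectTransparency.types false

universe u

open CategoryTheory CategoryTheory.Limits AlgebraicGeometry TopologicalSpace IsLocalRing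

namespace Groth.Agent.RelEffX

open Groth.Agent

variable {X S : Scheme.{u}}

theorem flat_quotientMap_away {B B' : Type u} [CommRing B] [CommRing B'] [Algebra B B'] (g : B)
    [IsLocalization.Away g B'] (J : Ideal B) :
    (Ideal.quotientMap (J.map (algebraMap B B')) (algebraMap B B') Ideal.le_comap_map).Flat := by
  haveI := IsLocalization.flat (B' ⧸ J.map (algebraMap B B')) (Algebra.algebraMapSubmonoid (B ⧸ J) (Submonoid.powers g))
  exact RingHom.flat_algebraMap_iff.2 this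

/-- A chart at a point of a locally principal subscheme which is a divisor on the fibre. -/
theorem exists_chart (φ : X ⟶ S) [Flat φ] [LocallyOfFinitePresentation φ] (𝓘 : X.IdealSheafData) (x : X)
    (hx : x ∈ (𝓘.support : Set X)) (U₀ : X.affineOpens) (hxU₀ : x ∈ U₀.1) (a : Γ(X, U₀.1))
    (ha : 𝓘.ideal U₀ = Ideal.span {a}) (hfib : BlowUp.IsEffCartierIdeal (𝓘.comap (φ.fiberι (φ x)))) :
    ∃ (U : X.affineOpens) (V : S.affineOpens) (e : U.1 ≤ φ ⁻¹ᵁ V.1) (b : Γ(X, U.1)),
      x ∈ U.1 ∧ b ∈ nonZeroDivisors Γ(X, U.1) ∧ 𝓘.ideal U = Ideal.span {b} ∧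
      ((Ideal.Quotient.mk (𝓘.ideal U)).comp (φ.appLE V.1 U.1 e).hom).Flat := by
  let c := X.presheaf.germ U₀.1 x hxU₀ a
  have hst : Div21Lib.st 𝓘 x = Ideal.span {c} := by
    rw [Div21Lib.st_eq 𝓘 U₀ hxU₀, CDivEq.stk, ha, Ideal.map_span, Set.image_singleton]
  have hc : c ∈ maximalIdeal (X.presheaf.stalk x) := fun hu => by
    refine (Div21Lib.notMem_support_iff 𝓘 x).2 ?_ hx
    rw [hst, Ideal.span_singleton_eq_top]
    exact hu
  have hreg : Ideal.Quotient.mk (Ideal.map (φ.stalkMap x).hom (maximalIdeal (S.presheaf.stalk (φ x)))) c ∈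
      nonZeroDivisors (X.presheaf.stalk x ⧸ Ideal.map (φ.stalkMap x).hom (maximalIdeal (S.presheaf.stalk (φ x)))) := by
    obtain ⟨w, hw⟩ : x ∈ Set.range (φ.fiberι (φ x)) := by
      rw [Scheme.Hom.range_fiberι]; rfl
    obtain ⟨g, hg, hgs⟩ := Div21Lib.exists_gen _ hfib w
    rw [Div21Lib.st_comap] at hgs
    have hker := FlatDvr.ker_stalkMap_fiberι φ w
    have key : ∀ (x' : X) (e : φ.fiberι (φ x) w = x') (c' : X.presheaf.stalk x'),
        Div21Lib.st 𝓘 x' = Ideal.span {c'} →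
        Ideal.Quotient.mk (Ideal.map (φ.stalkMap x').hom (maximalIdeal (S.presheaf.stalk (φ x')))) c' ∈
          nonZeroDivisors (X.presheaf.stalk x' ⧸ Ideal.map (φ.stalkMap x').hom (maximalIdeal (S.presheaf.stalk (φ x')))) := by
      rintro _ rfl c' hc'
      rw [hc', Ideal.map_span, Set.image_singleton] at hgs
      set σ := ((φ.fiberι (φ x)).stalkMap w).hom with hσ
      obtain ⟨r, hr⟩ := Ideal.mem_span_singleton'.1 (hgs ▸ Ideal.mem_span_singleton_self g)
      refine mem_nonZeroDivisors_iff_right.2 fun z hz => ?_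
      obtain ⟨z, rfl⟩ := Ideal.Quotient.mk_surjective z
      rw [← map_mul, Ideal.Quotient.eq_zero_iff_mem, ← hker, RingHom.mem_ker, map_mul] at hz
      rw [Ideal.Quotient.eq_zero_iff_mem, ← hker, RingHom.mem_ker]
      refine mem_nonZeroDivisors_iff_right.1 hg _ ?_
      rw [← hr, ← mul_assoc, mul_comm (σ z) r, mul_assoc, hz, mul_zero]
    exact key x hw c hst
  obtain ⟨V, hV, U, hU, hxU, -, e, hs', hgerm, -, hwr, hfl⟩ :=
    Triage.SliceFlat.exists_slice_sch φ x (Flat.stalkMap φ x) [c] (by simpa using hc) (fun i hi z hz => by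
      obtain rfl : i = 0 := by simpa using hi
      simp only [List.take_zero, Ideal.ofList_nil, bot_sup_eq, List.getElem_cons_zero] at hz ⊢
      rw [← Ideal.Quotient.eq_zero_iff_mem, map_mul] at hz
      rw [← Ideal.Quotient.eq_zero_iff_mem]
      exact (mem_nonZeroDivisors_iff.1 hreg).1 _ hz) ⊤ trivial
  match hs', hgerm with
  | [h], hgerm =>
    simp only [List.map_cons, List.map_nil, List.cons.injEq, and_true] at hgerm
    have hnzd : h ∈ nonZeroDivisors Γ(X, U) := by
      have h0 := (RingTheory.Sequence.isWeaklyRegular_cons_iff Γ(X, U) h []).1 hwr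
      rw [mem_nonZeroDivisors_iff]
      refine ⟨fun z hz => ?_, fun z hz => ?_⟩ <;>
        exact h0.1.right_eq_zero_of_smul (by simpa [smul_eq_mul, mul_comm] using hz)
    obtain ⟨W, hxW, i₁, i₂, heq⟩ := TopCat.Presheaf.germ_eq (X := X.toTopCat) X.presheaf x hxU hxU₀ h a hgerm
    obtain ⟨g, g', eg, hxg⟩ := exists_basicOpen_le_affine_inter hU U₀.2 x ⟨hxU, hxU₀⟩
    let U₁ : X.affineOpens := X.affineBasicOpen (U := ⟨U, hU⟩) g
    obtain ⟨r, hrW, hxr⟩ : ∃ r : Γ(X, U₁.1), X.basicOpen r ≤ W ∧ x ∈ X.basicOpen r :=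
      U₁.2.exists_basicOpen_le (V := W) ⟨x, hxW⟩ hxg
    let U₂ : X.affineOpens := X.affineBasicOpen (U := U₁) r
    have hle₁ : U₂.1 ≤ U₁.1 := X.basicOpen_le r
    have hle : U₂.1 ≤ U := hle₁.trans (X.basicOpen_le g)
    let ρ : Γ(X, U) ⟶ Γ(X, U₂.1) := X.presheaf.map (homOfLE hle).op
    have hid : 𝓘.ideal U₂ = Ideal.span {ρ h} := by
      have h1 : 𝓘.ideal (X.affineBasicOpen g') = Ideal.span {X.presheaf.map (homOfLE (X.basicOpen_le g')).op a} := by
        refine (𝓘.map_ideal_basicOpen U₀ g').symm.trans ?_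
        rw [ha, Ideal.map_span, Set.image_singleton]
      have hU₁ : U₁ = X.affineBasicOpen g' := Subtype.ext eg
      have hle₀ : U₁.1 ≤ U₀.1 := by rw [hU₁]; exact X.basicOpen_le g'
      have h2 : 𝓘.ideal U₁ = Ideal.span {X.presheaf.map (homOfLE hle₀).op a} := by
        have key : ∀ (U' : X.affineOpens) (e : U' = X.affineBasicOpen g') (l : U'.1 ≤ U₀.1),
            𝓘.ideal U' = Ideal.span {X.presheaf.map (homOfLE l).op a} := by
          rintro _ rfl _; exact h1
        exact key U₁ hU₁ hle₀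
      refine (𝓘.map_ideal_basicOpen U₁ r).symm.trans ?_
      rw [h2, Ideal.map_span, Set.image_singleton]
      refine congrArg (fun t => Ideal.span {t}) ?_
      have hle₂ : U₂.1 ≤ W := hrW
      have e1 := congrArg (X.presheaf.map (homOfLE hle₂).op) heq
      simp only [← CommRingCat.comp_apply, ← Functor.map_comp] at e1 ⊢
      exact e1.symm
    letI : Algebra Γ(X, U) Γ(X, U₁.1) := (X.presheaf.map (homOfLE (X.basicOpen_le g)).op).hom.toAlgebra
    letI : Algebra Γ(X, U₁.1) Γ(X, U₂.1) := (X.presheaf.map (homOfLE hle₁).op).hom.toAlgebra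
    haveI : IsLocalization.Away g Γ(X, U₁.1) := hU.isLocalization_basicOpen g
    haveI : IsLocalization.Away r Γ(X, U₂.1) := U₁.2.isLocalization_basicOpen r
    have hρ : ρ.hom = (algebraMap Γ(X, U₁.1) Γ(X, U₂.1)).comp (algebraMap Γ(X, U) Γ(X, U₁.1)) := by
      show (X.presheaf.map (homOfLE hle).op).hom = (X.presheaf.map _).hom.comp (X.presheaf.map _).hom
      rw [← CommRingCat.hom_comp, ← Functor.map_comp]
      rfl
    refine ⟨U₂, ⟨V, hV⟩, hle.trans e, ρ h, hxr, ?_, hid, ?_⟩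
    · rw [show ρ h = algebraMap Γ(X, U₁.1) Γ(X, U₂.1) (algebraMap Γ(X, U) Γ(X, U₁.1) h) from
        RingHom.congr_fun hρ h]
      exact IsLocalization.map_nonZeroDivisors_le (M := Submonoid.powers r) _
        (Submonoid.mem_map_of_mem _ (IsLocalization.map_nonZeroDivisors_le (M := Submonoid.powers g) _
          (Submonoid.mem_map_of_mem _ hnzd)))
    · have hfl' : ((Ideal.Quotient.mk (Ideal.ofList [h])).comp (φ.appLE V U e).hom).Flat := hfl 1
      let J₁ := (Ideal.ofList [h]).map (algebraMap Γ(X, U) Γ(X, U₁.1))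
      let J₂ := J₁.map (algebraMap Γ(X, U₁.1) Γ(X, U₂.1))
      have hJ : 𝓘.ideal U₂ = J₂ := by
        rw [hid]
        rw [show J₂ = ((Ideal.ofList [h]).map (algebraMap Γ(X, U) Γ(X, U₁.1))).map (algebraMap Γ(X, U₁.1) Γ(X, U₂.1)) from rfl,
          Ideal.ofList_singleton, Ideal.map_span, Set.image_singleton, Ideal.map_span, Set.image_singleton]
        rw [show ρ h = _ from RingHom.congr_fun hρ h]
        rfl
      have hcomp := (hfl'.comp (flat_quotientMap_away (B' := Γ(X, U₁.1)) g (Ideal.ofList [h]))).comp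
        (flat_quotientMap_away (B' := Γ(X, U₂.1)) r J₁)
      rw [hJ]
      convert hcomp using 1
      refine RingHom.ext fun s => ?_
      show Ideal.Quotient.mk J₂ (φ.appLE V U₂.1 (hle.trans e) s) = Ideal.Quotient.mk J₂
        (algebraMap Γ(X, U₁.1) Γ(X, U₂.1) (algebraMap Γ(X, U) Γ(X, U₁.1) (φ.appLE V U e s)))
      rw [← RingHom.comp_apply (algebraMap Γ(X, U₁.1) Γ(X, U₂.1)), ← hρ, ← Scheme.Hom.appLE_map φ e (homOfLE hle).op]
      rfl
  | [], hgerm => simp at hgerm
  | _ :: _ :: _, hgerm => simp at hgerm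

/-- A locally principal subscheme cutting a divisor on each fibre is a relative effective divisor. -/
theorem relEffCartier (φ : X ⟶ S) [Flat φ] [LocallyOfFinitePresentation φ] (𝓘 : X.IdealSheafData)
    (hZ : ∀ x ∈ (𝓘.support : Set X), ∃ U : X.affineOpens, x ∈ U.1 ∧ ∃ a : Γ(X, U.1), 𝓘.ideal U = Ideal.span {a})
    (hfib : ∀ s : S, BlowUp.IsEffCartierIdeal (𝓘.comap (φ.fiberι s))) :
    BlowUp.IsEffCartierIdeal 𝓘 ∧ Flat (𝓘.subschemeι ≫ φ) := by
  have chart : ∀ x ∈ (𝓘.support : Set X), ∃ (U : X.affineOpens) (V : S.affineOpens) (e : U.1 ≤ φ ⁻¹ᵁ V.1)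
      (b : Γ(X, U.1)), x ∈ U.1 ∧ b ∈ nonZeroDivisors Γ(X, U.1) ∧ 𝓘.ideal U = Ideal.span {b} ∧
        ((Ideal.Quotient.mk (𝓘.ideal U)).comp (φ.appLE V.1 U.1 e).hom).Flat := fun x hx => by
    obtain ⟨U₀, hxU₀, a, ha⟩ := hZ x hx
    exact exists_chart φ 𝓘 x hx U₀ hxU₀ a ha (hfib _)
  refine ⟨fun x => ?_, ?_⟩
  · by_cases hx : x ∈ (𝓘.support : Set X)
    · obtain ⟨U, -, -, b, hxU, hb, hid, -⟩ := chart x hx
      exact ⟨U, hxU, b, hb, hid⟩
    · obtain ⟨U, hU, hxU, hle⟩ := exists_isAffineOpen_mem_and_subset (U := 𝓘.support.compl) hx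
      refine ⟨⟨U, hU⟩, hxU, 1, one_mem _, ?_⟩
      rw [Ideal.span_singleton_one]
      refine (Ideal.eq_top_iff_one _).2 (Div21Lib.mem_of_germ hU _ 1 fun z hz => ?_)
      have h := (Div21Lib.notMem_support_iff 𝓘 z).1 (hle hz)
      rw [Div21Lib.st_eq 𝓘 ⟨U, hU⟩ hz, CDivEq.stk] at h
      rw [h]
      trivial
  · rw [HasRingHomProperty.iff_exists_appLE (P := @Flat)
      (RingHom.Flat.stableUnderComposition.stableUnderCompositionWithLocalizationAway
        RingHom.Flat.holdsForLocalizationAway).left]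
    intro z
    have hz : 𝓘.subschemeι z ∈ (𝓘.support : Set X) := by
      rw [← Scheme.IdealSheafData.range_subschemeι]
      exact Set.mem_range_self z
    obtain ⟨U, V, e, -, hzU, -, -, hfl⟩ := chart _ hz
    exact ⟨V, ⟨_, U.2.preimage 𝓘.subschemeι⟩, hzU, fun _ hy => e hy,
      (RelCurve.appLE_subscheme_iff RingHom.Flat.respectsIso φ 𝓘 V U e).mpr hfl⟩

end Groth.Agent.RelEffX
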