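import Groth.Agent.RelEffX.Main
import Groth.Agent.CartierFP.Stalks
import Groth.Agent.QCoh.Support
import Mathlib.LinearAlgebra.TensorProduct.RightExactness

/-!
# Relative effective Cartier divisors: flat finitely presented subschemes which are divisors on fibres
-/

set_option autoImplicit false
set_option linter.style.haveILetI false
set_option backward.isDefEq.respectTransparency false
set_option backward.isDefEq.respectTransparency.types false

universe u

open CategoryTheory CategoryTheory.Limits AlgebraicGeometry TopologicalSpace IsLocalRing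
open scoped TensorProduct

namespace Groth.Agent.RelEffX

open Groth.Agent

/-- For a flat quotient, the kernel meets `J C` in `J` times the kernel. -/
theorem ker_inf_map_le {A C D : Type u} [CommRing A] [CommRing C] [CommRing D] (g : A →+* C) (σ : C →+* D)
    (hσ : Function.Surjective σ) (hflat : (σ.comp g).Flat) (J : Ideal A) :
    RingHom.ker σ ⊓ J.map g ≤ J.map g * RingHom.ker σ := by
  letI : Algebra A C := g.toAlgebra
  letI : Algebra A D := (σ.comp g).toAlgebra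
  haveI : Module.Flat A D := hflat
  let σl : C →ₗ[A] D := (⟨σ, fun _ => rfl⟩ : C →ₐ[A] D).toLinearMap
  let νC : J ⊗[A] C →ₗ[A] C := (TensorProduct.lid A C).toLinearMap ∘ₗ J.subtype.rTensor C
  let νD : J ⊗[A] D →ₗ[A] D := (TensorProduct.lid A D).toLinearMap ∘ₗ J.subtype.rTensor D
  have hνD : Function.Injective νD :=
    (TensorProduct.lid A D).injective.comp
      (Module.Flat.rTensor_preserves_injective_linearMap _ J.subtype_injective)
  have hνC : ∀ (j : J) (c : C), νC (j ⊗ₜ c) = g j * c := fun j c => rfl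
  have hnat : ∀ t, νD (σl.lTensor J t) = σl (νC t) := fun t => by
    induction t using TensorProduct.induction_on with
    | zero => simp
    | tmul j c => exact (σl.map_smul (j : A) c).symm
    | add a b ha hb => simp only [map_add, ha, hb]
  rintro x ⟨hx, hxJ⟩
  obtain ⟨t, rfl⟩ : ∃ t, νC t = x := by
    clear hx
    rw [SetLike.mem_coe, Ideal.map] at hxJ
    induction hxJ using Submodule.span_induction with
    | mem y hy =>
      obtain ⟨j, hj, rfl⟩ := hy
      exact ⟨(⟨j, hj⟩ : J) ⊗ₜ 1, by rw [hνC, mul_one]⟩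
    | zero => exact ⟨0, map_zero _⟩
    | add a b _ _ ha hb =>
      obtain ⟨a', rfl⟩ := ha
      obtain ⟨b', rfl⟩ := hb
      exact ⟨a' + b', map_add _ _ _⟩
    | smul c a hmem ha =>
      obtain ⟨a', rfl⟩ := ha
      refine ⟨(LinearMap.mulLeft A c).lTensor J a', ?_⟩
      clear hmem
      induction a' using TensorProduct.induction_on with
      | zero => simp
      | tmul j d => rw [LinearMap.lTensor_tmul, hνC, hνC, LinearMap.mulLeft_apply, smul_eq_mul]; ring
      | add a b ha hb => simp only [map_add, smul_add, ha, hb]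
  have h0 : σl.lTensor J t = 0 := hνD (by rw [hnat, map_zero]; exact hx)
  obtain ⟨t', rfl⟩ := (lTensor_exact J (LinearMap.exact_subtype_ker_map σl) hσ t).1 h0
  clear hx hxJ h0
  induction t' using TensorProduct.induction_on with
  | zero => simp
  | tmul j k =>
    rw [LinearMap.lTensor_tmul, hνC]
    exact Ideal.mul_mem_mul (Ideal.mem_map_of_mem g j.2) k.2
  | add a b ha hb => rw [map_add, map_add]; exact add_mem ha hb

variable {X S : Scheme.{u}}

theorem ideal_fg_of_lfp (φ : X ⟶ S) [LocallyOfFinitePresentation φ] (𝓘 : X.IdealSheafData)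
    [LocallyOfFinitePresentation (𝓘.subschemeι ≫ φ)] (V : S.affineOpens) (U : X.affineOpens)
    (e : U.1 ≤ φ ⁻¹ᵁ V.1) : (𝓘.ideal U).FG := by
  have h1 : (φ.appLE V.1 U.1 e).hom.FinitePresentation :=
    HasRingHomProperty.appLE (P := @LocallyOfFinitePresentation) φ ‹_› V U e
  have h2 : ((Ideal.Quotient.mk (𝓘.ideal U)).comp (φ.appLE V.1 U.1 e).hom).FinitePresentation :=
    (RelCurve.appLE_subscheme_iff RingHom.finitePresentation_respectsIso φ 𝓘 V U e).mp
      (HasRingHomProperty.appLE (P := @LocallyOfFinitePresentation) (𝓘.subschemeι ≫ φ) ‹_› V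
        ⟨_, U.2.preimage 𝓘.subschemeι⟩ (fun _ hy => e hy))
  letI := (φ.appLE V.1 U.1 e).hom.toAlgebra
  let ψ : Γ(X, U.1) →ₐ[Γ(S, V.1)] Γ(X, U.1) ⧸ 𝓘.ideal U := Ideal.Quotient.mkₐ _ _
  haveI : Algebra.FinitePresentation Γ(S, V.1) Γ(X, U.1) := h1
  haveI : Algebra.FinitePresentation Γ(S, V.1) (Γ(X, U.1) ⧸ 𝓘.ideal U) :=
    RingHom.finitePresentation_algebraMap.1 h2
  have := Algebra.FinitePresentation.ker_fG_of_surjective ψ Ideal.Quotient.mk_surjective
  rwa [show RingHom.ker ψ.toRingHom = 𝓘.ideal U from Ideal.mk_ker] at this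

theorem isLocPrincipal_of_flat_of_fibres (φ : X ⟶ S) [LocallyOfFinitePresentation φ] (𝓘 : X.IdealSheafData)
    [Flat (𝓘.subschemeι ≫ φ)] [LocallyOfFinitePresentation (𝓘.subschemeι ≫ φ)]
    (hfib : ∀ s : S, BlowUp.IsEffCartierIdeal (𝓘.comap (φ.fiberι s))) (x : X)
    (hx : x ∈ (𝓘.support : Set X)) :
    ∃ U : X.affineOpens, x ∈ U.1 ∧ ∃ a : Γ(X, U.1), 𝓘.ideal U = Ideal.span {a} := by
  classical
  rw [← Scheme.IdealSheafData.range_subschemeι] at hx
  obtain ⟨z, rfl⟩ := hx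
  set x := 𝓘.subschemeι z with hxdef
  obtain ⟨V, hV, hxV, -⟩ := exists_isAffineOpen_mem_and_subset (x := φ x) (U := ⊤) trivial
  obtain ⟨U, hU, hxU, hle⟩ := exists_isAffineOpen_mem_and_subset (x := x) (U := φ ⁻¹ᵁ V) hxV
  have hfg : (𝓘.ideal ⟨U, hU⟩).FG := ideal_fg_of_lfp φ 𝓘 ⟨V, hV⟩ ⟨U, hU⟩ hle
  have hst : Div21Lib.st 𝓘 x = RingHom.ker (𝓘.subschemeι.stalkMap z).hom := by
    rw [Div21Lib.st_eq 𝓘 ⟨U, hU⟩ hxU, CDivEq.stk]
    exact (CartierFP.ker_stalkMap_subschemeι 𝓘 ⟨U, hU⟩ z hxU).symm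
  have hcomp : (𝓘.subschemeι ≫ φ).stalkMap z = φ.stalkMap x ≫ 𝓘.subschemeι.stalkMap z :=
    Scheme.Hom.stalkMap_comp _ _ _
  have hflat : ((𝓘.subschemeι.stalkMap z).hom.comp (φ.stalkMap x).hom).Flat := by
    have h := Flat.stalkMap (𝓘.subschemeι ≫ φ) z
    rw [hcomp] at h
    exact h
  have hinf := ker_inf_map_le (φ.stalkMap x).hom (𝓘.subschemeι.stalkMap z).hom
    (𝓘.subschemeι.stalkMap_surjective z) hflat (maximalIdeal _)
  rw [← hst] at hinf
  -- the fibre
  obtain ⟨w, hw⟩ : x ∈ Set.range (φ.fiberι (φ x)) := by rw [Scheme.Hom.range_fiberι]; rfl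
  obtain ⟨g, -, hgs⟩ := Div21Lib.exists_gen _ (hfib (φ x)) w
  rw [Div21Lib.st_comap] at hgs
  have key : ∀ (x' : X) (e : φ.fiberι (φ x) w = x'), ∃ c ∈ Div21Lib.st 𝓘 x',
      Div21Lib.st 𝓘 x' ≤ Ideal.span {c} ⊔
        (Div21Lib.st 𝓘 x' ⊓ (maximalIdeal (S.presheaf.stalk (φ x'))).map (φ.stalkMap x').hom) := by
    rintro _ rfl
    have hker := FlatDvr.ker_stalkMap_fiberι φ w
    have hsurj := (φ.fiberι (φ x)).stalkMap_surjective w
    obtain ⟨c, hc, hcg⟩ := (Ideal.mem_map_iff_of_surjective _ hsurj).1 (hgs ▸ Ideal.mem_span_singleton_self g)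
    refine ⟨c, hc, fun y hy => ?_⟩
    obtain ⟨r, hr⟩ := Ideal.mem_span_singleton'.1 (hgs ▸ Ideal.mem_map_of_mem _ hy)
    obtain ⟨r, rfl⟩ := hsurj r
    refine Submodule.mem_sup.2 ⟨r * c, Ideal.mem_span_singleton'.2 ⟨r, rfl⟩, y - r * c,
      ⟨sub_mem hy (Ideal.mul_mem_left _ _ hc), ?_⟩, by ring⟩
    rw [SetLike.mem_coe, ← hker, RingHom.mem_ker, map_sub, map_mul, hcg, sub_eq_zero]
    exact hr.symm
  obtain ⟨c, hc, hcI⟩ := key x hw
  haveI : IsLocalHom (φ.stalkMap x).hom := inferInstance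
  have hfgx : (Div21Lib.st 𝓘 x).FG := by
    rw [Div21Lib.st_eq 𝓘 ⟨U, hU⟩ hxU, CDivEq.stk]
    exact hfg.map _
  have hspan : Div21Lib.st 𝓘 x ≤ Ideal.span {c} := by
    refine Submodule.le_of_le_smul_of_le_jacobson_bot hfgx (maximalIdeal_le_jacobson _)
      (hcI.trans (sup_le_sup_left (hinf.trans ?_) _))
    rw [← smul_eq_mul]
    exact Submodule.smul_mono_left (map_maximalIdeal_le (φ.stalkMap x).hom)
  have heq : Div21Lib.st 𝓘 x = Ideal.span {c} :=
    le_antisymm hspan ((Ideal.span_singleton_le_iff_mem _).2 hc)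
  -- spread out
  letI := X.presheaf.algebra_section_stalk (U := U) ⟨x, hxU⟩
  set p := (hU.primeIdealOf ⟨x, hxU⟩).asIdeal
  haveI : IsLocalization.AtPrime (X.presheaf.stalk x) p := hU.isLocalization_stalk ⟨x, hxU⟩
  have hstk : Div21Lib.st 𝓘 x = (𝓘.ideal ⟨U, hU⟩).map (algebraMap Γ(X, U) (X.presheaf.stalk x)) :=
    Div21Lib.st_eq 𝓘 ⟨U, hU⟩ hxU
  obtain ⟨⟨h, u⟩, hhu⟩ := IsLocalization.surj p.primeCompl c
  obtain ⟨v, hv, hvh⟩ := (IsLocalization.algebraMap_mem_map_algebraMap_iff p.primeCompl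
    (X.presheaf.stalk x) _ h).1 (by rw [← hstk, ← hhu]; exact Ideal.mul_mem_right _ _ hc)
  have hc' : Ideal.span {algebraMap Γ(X, U) (X.presheaf.stalk x) (v * h)} = Ideal.span {c} := by
    rw [map_mul, mul_comm, Ideal.span_singleton_mul_right_unit
      (IsLocalization.map_units _ (⟨v, hv⟩ : p.primeCompl)), ← hhu,
      Ideal.span_singleton_mul_right_unit (IsLocalization.map_units _ u)]
  have h1 : ∀ y ∈ 𝓘.ideal ⟨U, hU⟩, ∃ a ∉ p, a * y ∈ Ideal.span {v * h} := fun y hy =>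
    (IsLocalization.algebraMap_mem_map_algebraMap_iff p.primeCompl (X.presheaf.stalk x) _ y).1 (by
      rw [Ideal.map_span, Set.image_singleton, hc', ← heq, hstk]
      exact Ideal.mem_map_of_mem _ hy)
  obtain ⟨s, hs⟩ := hfg
  choose a ha ha' using fun y : s => h1 y.1 (hs ▸ Submodule.subset_span y.2)
  have hprod : ∏ y, a y ∉ p := fun h' => by
    obtain ⟨i, -, hi⟩ := Ideal.IsPrime.prod_mem_iff.1 h'
    exact ha i hi
  have hxb : x ∈ X.basicOpen (∏ y, a y) := (Groth.Agent.QCoh.mem_basicOpen_iff_notMem hU hxU _).2 hprod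
  refine ⟨X.affineBasicOpen (U := ⟨U, hU⟩) (∏ y, a y), hxb,
    X.presheaf.map (homOfLE (X.basicOpen_le (∏ y, a y))).op (v * h), ?_⟩
  refine (𝓘.map_ideal_basicOpen ⟨U, hU⟩ _).symm.trans (le_antisymm ?_ ?_)
  · conv_lhs => rw [← hs]
    rw [Ideal.map_span, Ideal.span_le]
    rintro _ ⟨y, hy, rfl⟩
    letI := (X.presheaf.map (homOfLE (X.basicOpen_le (∏ y, a y))).op).hom.toAlgebra
    haveI := hU.isLocalization_basicOpen (∏ y, a y)
    have hu := IsLocalization.Away.algebraMap_isUnit (S := Γ(X, X.basicOpen (∏ y, a y))) (∏ y, a y)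
    rw [map_prod, IsUnit.prod_iff] at hu
    refine Ideal.mem_span_singleton.2 ((hu ⟨y, hy⟩ (Finset.mem_univ _)).dvd_mul_left.1 ?_)
    refine dvd_trans (map_dvd (algebraMap Γ(X, U) Γ(X, X.basicOpen (∏ y, a y))) (Ideal.mem_span_singleton.1 (ha' ⟨y, hy⟩))) ?_
    rw [map_mul]
    rfl
  · rw [Ideal.span_singleton_le_iff_mem]
    exact Ideal.mem_map_of_mem _ hvh

end Groth.Agent.RelEffX
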