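import Groth.Agent.RelEffX.Main
import Groth.Agent.ModPairLib.Basic
import Mathlib.LinearAlgebra.TensorProduct.Pi
import Mathlib.RingTheory.Flat.Basic
import Mathlib.RingTheory.Ideal.MinimalPrime.Noetherian
import Mathlib.AlgebraicGeometry.Noetherian
import Mathlib.AlgebraicGeometry.ResidueField

/-!
# Containment of flat subschemes over a reduced base can be tested on fibres
-/

set_option autoImplicit false
set_option linter.style.haveILetI false
set_option backward.isDefEq.respectTransparency false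
set_option backward.isDefEq.respectTransparency.types false

universe u

open CategoryTheory CategoryTheory.Limits AlgebraicGeometry TopologicalSpace
open scoped TensorProduct

namespace Groth.Agent.RelEffX

open Groth.Agent

/-- An element of a flat module over a reduced noetherian ring vanishing at every minimal prime is zero. -/
theorem eq_zero_of_minimalPrimes {A M : Type u} [CommRing A] [IsNoetherianRing A] [IsReduced A] [AddCommGroup M]
    [Module A M] [Module.Flat A M] (m : M)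
    (h : ∀ p : PrimeSpectrum A, p.asIdeal ∈ minimalPrimes A → m ⊗ₜ[A] (1 : p.asIdeal.ResidueField) = 0) : m = 0 := by
  classical
  haveI : Finite {p : PrimeSpectrum A // p.asIdeal ∈ minimalPrimes A} :=
    ((minimalPrimes.finite_of_isNoetherianRing A).preimage
      (fun _ _ _ _ h => PrimeSpectrum.ext h)).to_subtype
  letI := Fintype.ofFinite {p : PrimeSpectrum A // p.asIdeal ∈ minimalPrimes A}
  let P := ∀ p : {p : PrimeSpectrum A // p.asIdeal ∈ minimalPrimes A}, p.1.asIdeal.ResidueField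
  let ι : A →ₗ[A] P := LinearMap.pi fun p => Algebra.linearMap A p.1.asIdeal.ResidueField
  have hι : Function.Injective ι := by
    refine (injective_iff_map_eq_zero ι).2 fun a ha => ?_
    have ha' : a ∈ sInf (minimalPrimes A) := Ideal.mem_sInf.2 fun {q} hq => by
      haveI : q.IsPrime := hq.1.1
      have := congrFun ha ⟨⟨q, hq.1.1⟩, hq⟩
      exact Ideal.algebraMap_residueField_eq_zero.1 this
    rw [minimalPrimes, Ideal.sInf_minimalPrimes, Ideal.radical_bot_of_isReduced] at ha'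
    exact ha'
  have h0 : ι.lTensor M (m ⊗ₜ 1) = 0 := by
    apply (TensorProduct.piRight A A M fun p : {p : PrimeSpectrum A // p.asIdeal ∈ minimalPrimes A} =>
      p.1.asIdeal.ResidueField).injective
    rw [map_zero]
    funext p
    show m ⊗ₜ[A] (ι 1 p) = 0
    have e1 : ι 1 p = 1 := map_one (algebraMap A p.1.asIdeal.ResidueField)
    rw [e1]
    exact h p.1 p.2
  have h1 : m ⊗ₜ[A] (1 : A) = 0 :=
    Module.Flat.lTensor_preserves_injective_linearMap ι hι (h0.trans (map_zero _).symm)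
  simpa using congrArg (TensorProduct.rid A M) h1

variable {X Y : Scheme.{u}}

/-- The functions on the spectrum of a ring over an affine open. -/
theorem appLE_specMap_fromSpec' {B : Type u} [CommRing B] {V : Y.Opens} (hV : IsAffineOpen V)
    (ρ : Γ(Y, V) →+* B) (e : (⊤ : (Spec (CommRingCat.of B)).Opens) ≤
      (Spec.map (CommRingCat.ofHom ρ) ≫ hV.fromSpec) ⁻¹ᵁ V) :
    (Spec.map (CommRingCat.ofHom ρ) ≫ hV.fromSpec).appLE V ⊤ e ≫
      (Scheme.ΓSpecIso (CommRingCat.of B)).hom = CommRingCat.ofHom ρ := by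
  have e₁ : (⊤ : (Spec Γ(Y, V)).Opens) ≤ hV.fromSpec ⁻¹ᵁ V := hV.fromSpec_preimage_self.ge
  have h1 : hV.fromSpec.appLE V ⊤ e₁ = (Scheme.ΓSpecIso Γ(Y, V)).inv := by
    rw [Scheme.Hom.appLE, hV.fromSpec_app_self, Category.assoc, ← Functor.map_comp,
      ← op_comp, Subsingleton.elim (_ ≫ _) (𝟙 (⊤ : (Spec Γ(Y, V)).Opens)), op_id,
      CategoryTheory.Functor.map_id, Category.comp_id]
  rw [← Scheme.Hom.appLE_comp_appLE (Spec.map (CommRingCat.ofHom ρ)) hV.fromSpec V ⊤ ⊤ e₁ le_top, h1,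
    show (Spec.map (CommRingCat.ofHom ρ)).appLE ⊤ ⊤ le_top = (Spec.map (CommRingCat.ofHom ρ)).appTop from
      ((Spec.map (CommRingCat.ofHom ρ)).app_eq_appLE (U := ⊤)).symm, Category.assoc,
    Scheme.ΓSpecIso_naturality]
  exact Iso.inv_hom_id_assoc _ _

set_option maxHeartbeats 1000000 in
/-- Over a reduced noetherian base, containment in a flat closed subscheme is tested on the fibres. -/
theorem le_of_forall_fibre_le {T : Scheme.{u}} [IsLocallyNoetherian T] [AlgebraicGeometry.IsReduced T]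
    (π : X ⟶ T) (D D' : X.IdealSheafData) [Flat (D'.subschemeι ≫ π)]
    (hfib : ∀ t : T, D.comap (pullback.fst π (T.fromSpecResidueField t)) ≤
      D'.comap (pullback.fst π (T.fromSpecResidueField t))) : D ≤ D' := by
  refine Scheme.IdealSheafData.le_of_iSup_eq_top
    (fun i : {U : X.affineOpens // ∃ V : T.affineOpens, U.1 ≤ π ⁻¹ᵁ V.1} => i.1) ?_ fun ⟨U, V, e⟩ => ?_
  · refine top_le_iff.1 fun x _ => ?_
    obtain ⟨V, hV, hxV, -⟩ := exists_isAffineOpen_mem_and_subset (x := π x) (U := ⊤) trivial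
    obtain ⟨U, hU, hxU, hle⟩ := exists_isAffineOpen_mem_and_subset (x := x) (U := π ⁻¹ᵁ V) hxV
    exact Opens.mem_iSup.2 ⟨⟨⟨U, hU⟩, ⟨V, hV⟩, hle⟩, hxU⟩
  intro d hd
  letI : Algebra Γ(T, V.1) Γ(X, U.1) := (π.appLE V.1 U.1 e).hom.toAlgebra
  haveI : IsNoetherianRing Γ(T, V.1) := IsLocallyNoetherian.component_noetherian V
  haveI : _root_.IsReduced Γ(T, V.1) := inferInstance
  haveI : Module.Flat Γ(T, V.1) (Γ(X, U.1) ⧸ D'.ideal U) :=
    RingHom.flat_algebraMap_iff.1 ((RelCurve.appLE_subscheme_iff RingHom.Flat.respectsIso π D' V U e).mp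
      (HasRingHomProperty.appLE (P := @Flat) (D'.subschemeι ≫ π) ‹_› V
        ⟨_, U.2.preimage D'.subschemeι⟩ (fun _ hy => e hy)))
  refine Ideal.Quotient.eq_zero_iff_mem.1 (eq_zero_of_minimalPrimes (A := Γ(T, V.1)) _ fun p _ => ?_)
  let K := p.asIdeal.ResidueField
  let C := (Γ(X, U.1) ⧸ D'.ideal U) ⊗[Γ(T, V.1)] K
  let ψ : Γ(X, U.1) →ₐ[Γ(T, V.1)] C :=
    Algebra.TensorProduct.includeLeft.comp (Ideal.Quotient.mkₐ _ _)
  let κ : K →ₐ[Γ(T, V.1)] C := Algebra.TensorProduct.includeRight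
  let g : Spec (CommRingCat.of C) ⟶ X := Spec.map (CommRingCat.ofHom ψ.toRingHom) ≫ U.2.fromSpec
  let tm : Spec (CommRingCat.of K) ⟶ T :=
    Spec.map (CommRingCat.ofHom (algebraMap Γ(T, V.1) K)) ≫ V.2.fromSpec
  let φ := (Scheme.SpecToEquivOfField K T tm).2
  have htm : Spec.map φ ≫ T.fromSpecResidueField (Scheme.SpecToEquivOfField K T tm).1 = tm :=
    (Scheme.SpecToEquivOfField K T).left_inv tm
  have hg : g ≫ π = (Spec.map (CommRingCat.ofHom κ.toRingHom) ≫ Spec.map φ) ≫
      T.fromSpecResidueField (Scheme.SpecToEquivOfField K T tm).1 := by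
    refine Eq.trans ?_ ((Category.assoc _ _ _).trans (congrArg (_ ≫ ·) htm)).symm
    show (_ ≫ U.2.fromSpec) ≫ π = _ ≫ _ ≫ V.2.fromSpec
    rw [Category.assoc, ← IsAffineOpen.SpecMap_appLE_fromSpec π V.2 U.2 e,
      ← Category.assoc, ← Category.assoc, ← Spec.map_comp, ← Spec.map_comp]
    congr 2
    ext a
    exact (ψ.commutes a).trans (κ.commutes a).symm
  have hle : D.comap g ≤ D'.comap g := by
    rw [← pullback.lift_fst g _ hg, Scheme.IdealSheafData.comap_comp, Scheme.IdealSheafData.comap_comp]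
    exact (Scheme.IdealSheafData.map_gc _).monotone_l (hfib _)
  have e' : (⊤ : (Spec (CommRingCat.of C)).Opens) ≤ g ⁻¹ᵁ U.1 := fun z _ => by
    show g z ∈ U.1
    have : U.2.fromSpec (Spec.map (CommRingCat.ofHom ψ.toRingHom) z) ∈ U.2.fromSpec.opensRange := ⟨_, rfl⟩
    rwa [IsAffineOpen.opensRange_fromSpec] at this
  have happ : ∀ b, g.appLE U.1 ⊤ e' b = (Scheme.ΓSpecIso (CommRingCat.of C)).inv (ψ b) := fun b => by
    have := appLE_specMap_fromSpec' U.2 ψ.toRingHom e'
    rw [← Iso.eq_comp_inv] at this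
    exact congrArg (fun f => f.hom b) this
  have h := hle ⟨⊤, isAffineOpen_top _⟩
  rw [ModPairLib.ideal_comap D g U ⟨⊤, isAffineOpen_top _⟩ e',
    ModPairLib.ideal_comap D' g U ⟨⊤, isAffineOpen_top _⟩ e'] at h
  have h0 : (D'.ideal U).map (g.appLE U.1 ⊤ e').hom = ⊥ := by
    refine (Ideal.map_eq_bot_iff_le_ker _).2 fun b hb => ?_
    rw [RingHom.mem_ker, happ]
    show (Scheme.ΓSpecIso (CommRingCat.of C)).inv
      ((Ideal.Quotient.mk (D'.ideal U) b) ⊗ₜ[Γ(T, V.1)] (1 : K)) = 0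
    rw [Ideal.Quotient.eq_zero_iff_mem.2 hb, TensorProduct.zero_tmul, map_zero]
  have hd' := h (Ideal.mem_map_of_mem _ hd)
  rw [h0, Ideal.mem_bot, happ] at hd'
  exact (map_eq_zero_iff _ (Scheme.ΓSpecIso (CommRingCat.of C)).commRingCatIsoToRingEquiv.symm.injective).1 hd'

end Groth.Agent.RelEffX
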